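import Groth.Agent.DimFormula.Fibre
import Groth.Agent.DimFormula.Trdeg
import Groth.Agent.DimFormula.Catenary
import Groth.Agent.FibDim.BaseChange

/-!
# The dimension function of an algebra of finite type over a Prüfer domain
-/

set_option autoImplicit false
set_option linter.style.haveILetI false

open AlgebraicGeometry CategoryTheory Order

namespace Groth.Agent.H1Prufer

universe u

variable {R : Type u} [CommRing R] [IsDomain R] {S : Type u} [CommRing S] [Algebra R S]

/-- `a` divides `b` in the local ring at `q`. -/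
def LocDvd (q : Ideal R) (a b : R) : Prop := ∃ s ∉ q, ∃ c, s * b = c * a

omit [IsDomain R] in
theorem LocDvd.refl (q : Ideal R) [q.IsPrime] (a : R) : LocDvd q a a :=
  ⟨1, fun h => (inferInstance : q.IsPrime).ne_top ((Ideal.eq_top_iff_one q).2 h), 1, rfl⟩

omit [IsDomain R] in
theorem LocDvd.trans {q : Ideal R} [q.IsPrime] {a b c : R} (h : LocDvd q a b) (h' : LocDvd q b c) :
    LocDvd q a c := by
  obtain ⟨s, hs, x, hx⟩ := h
  obtain ⟨t, ht, y, hy⟩ := h'
  exact ⟨s * t, fun h => (Ideal.IsPrime.mem_or_mem inferInstance h).elim hs ht, x * y, by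
    linear_combination s * hy + y * hx⟩

theorem locDvd_total (hR : ∀ (p : Ideal R) [p.IsPrime], ValuationRing (Localization.AtPrime p))
    (q : Ideal R) [q.IsPrime] (a b : R) : LocDvd q a b ∨ LocDvd q b a := by
  let L := Localization.AtPrime q
  have hinj : Function.Injective (algebraMap R L) :=
    IsLocalization.injective L q.primeCompl_le_nonZeroDivisors
  have key : ∀ x y : R, algebraMap R L x ∣ algebraMap R L y → LocDvd q x y := by
    rintro x y ⟨z, hz⟩
    obtain ⟨c, s, rfl⟩ := IsLocalization.exists_mk'_eq q.primeCompl z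
    refine ⟨s, s.2, c, hinj ?_⟩
    rw [map_mul, map_mul, hz, mul_comm, mul_assoc, IsLocalization.mk'_spec, mul_comm]
  haveI := hR q
  exact (ValuationRing.dvd_total (algebraMap R L a) (algebraMap R L b)).imp (key a b) (key b a)

theorem exists_locDvd_all (hR : ∀ (p : Ideal R) [p.IsPrime], ValuationRing (Localization.AtPrime p))
    (q : Ideal R) [q.IsPrime] {ι : Type*} (c : ι → R) (s : Finset ι) (hs : s.Nonempty) :
    ∃ d ∈ s, ∀ e ∈ s, LocDvd q (c d) (c e) := by
  induction hs using Finset.Nonempty.cons_induction with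
  | singleton a =>
    exact ⟨a, Finset.mem_singleton_self a, fun e he => by
      rw [Finset.mem_singleton.1 he]; exact LocDvd.refl q _⟩
  | cons a s ha hs ih =>
    obtain ⟨d, hd, hdiv⟩ := ih
    rcases locDvd_total hR q (c a) (c d) with h | h
    · exact ⟨a, Finset.mem_cons_self a s, fun e he => by
        rcases Finset.mem_cons.1 he with rfl | he
        · exact LocDvd.refl q _
        · exact h.trans (hdiv e he)⟩
    · exact ⟨d, Finset.mem_cons.2 (Or.inr hd), fun e he => by
        rcases Finset.mem_cons.1 he with rfl | he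
        · exact h
        · exact hdiv e he⟩

/-- Independence spreads to smaller primes. -/
theorem indepMod_mono (hR : ∀ (p : Ideal R) [p.IsPrime], ValuationRing (Localization.AtPrime p))
    {P Q : Ideal S} [P.IsPrime] [Q.IsPrime] (hPQ : P ≤ Q) {n : ℕ} {t : Fin n → S}
    (ht : FibDim.IndepMod (A := R) t Q) : FibDim.IndepMod (A := R) t P := by
  classical
  intro G hG
  rw [MvPolynomial.mem_map_C_iff]
  by_contra hne
  push Not at hne
  obtain ⟨d0, hd0⟩ := hne
  let E := G.support.filter fun e => G.coeff e ∉ P.under R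
  have hd0E : d0 ∈ E := Finset.mem_filter.2 ⟨MvPolynomial.mem_support_iff.2 fun h => hd0 (h ▸ zero_mem _), hd0⟩
  obtain ⟨d, hdE, hdiv⟩ := exists_locDvd_all hR (Q.under R) (fun e => G.coeff e) E ⟨d0, hd0E⟩
  obtain ⟨hdS, hdP⟩ := Finset.mem_filter.1 hdE
  choose! s hs a ha using hdiv
  let σ := ∏ e ∈ E, s e
  have hσ : σ ∉ Q.under R := fun h => by
    obtain ⟨e, he, he'⟩ := (Ideal.IsPrime.prod_mem_iff).1 h
    exact hs e he he'
  let G' : MvPolynomial (Fin n) R := ∑ e ∈ E,
    MvPolynomial.monomial e (if e = d then σ else a e * ∏ e' ∈ E.erase e, s e')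
  have hC : MvPolynomial.C (G.coeff d) * G' = ∑ e ∈ E, MvPolynomial.monomial e (σ * G.coeff e) := by
    rw [Finset.mul_sum]
    refine Finset.sum_congr rfl fun e he => ?_
    rw [MvPolynomial.C_mul_monomial]
    congr 1
    split_ifs with h
    · rw [h, mul_comm]
    · show G.coeff d * (a e * ∏ e' ∈ E.erase e, s e') = (∏ e' ∈ E, s e') * G.coeff e
      rw [← Finset.mul_prod_erase E s he]
      linear_combination -(∏ e' ∈ E.erase e, s e') * ha e he
  have hmem : MvPolynomial.aeval t (MvPolynomial.C (G.coeff d) * G') ∈ P := by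
    rw [hC]
    have h1 : MvPolynomial.C σ * G = (∑ e ∈ E, MvPolynomial.monomial e (σ * G.coeff e)) +
        ∑ e ∈ G.support.filter (fun e => ¬ G.coeff e ∉ P.under R),
          MvPolynomial.monomial e (σ * G.coeff e) := by
      rw [Finset.sum_filter_add_sum_filter_not]
      conv_lhs => rw [G.as_sum, Finset.mul_sum]
      exact Finset.sum_congr rfl fun e _ => MvPolynomial.C_mul_monomial ..
    have h2 : MvPolynomial.aeval t (∑ e ∈ G.support.filter (fun e => ¬ G.coeff e ∉ P.under R),
        MvPolynomial.monomial e (σ * G.coeff e)) ∈ P := by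
      rw [map_sum]
      refine sum_mem fun e he => ?_
      rw [MvPolynomial.aeval_monomial]
      refine P.mul_mem_right _ ?_
      have := (Finset.mem_filter.1 he).2
      rw [not_not] at this
      exact show σ * G.coeff e ∈ P.under R from Ideal.mul_mem_left _ _ this
    have h3 : MvPolynomial.aeval t (MvPolynomial.C σ * G) ∈ P := by
      rw [map_mul]; exact P.mul_mem_left _ hG
    rw [h1, map_add] at h3
    exact (P.add_mem_iff_left h2).1 h3
  rw [map_mul, MvPolynomial.aeval_C] at hmem
  rcases Ideal.IsPrime.mem_or_mem inferInstance hmem with h | h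
  · exact hdP h
  · have h5 := MvPolynomial.mem_map_C_iff.1 (ht G' (hPQ h)) d
    have h6 : G'.coeff d = σ := by
      rw [MvPolynomial.coeff_sum, Finset.sum_eq_single d]
      · rw [MvPolynomial.coeff_monomial, if_pos rfl, if_pos rfl]
      · intro e _ he
        rw [MvPolynomial.coeff_monomial, if_neg he]
      · exact fun h => absurd hdE h
    exact hσ (h6 ▸ h5)

variable [Algebra.FiniteType R S]

theorem fd_anti (hR : ∀ (p : Ideal R) [p.IsPrime], ValuationRing (Localization.AtPrime p))
    {P Q : Ideal S} [P.IsPrime] [Q.IsPrime] (hPQ : P ≤ Q) :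
    DimFormula.fd R Q ≤ DimFormula.fd R P := by
  obtain ⟨t, ht⟩ := (DimFormula.le_fd_iff R Q _).1 le_rfl
  exact (DimFormula.le_fd_iff R P _).2 ⟨t, indepMod_mono hR hPQ ht⟩

variable (R S) in
/-- The structure morphism. -/
noncomputable abbrev str : Spec (CommRingCat.of S) ⟶ Spec (CommRingCat.of R) :=
  Spec.map (CommRingCat.ofHom (algebraMap R S))

instance : LocallyOfFiniteType (str R S) :=
  (HasRingHomProperty.Spec_iff (P := @LocallyOfFiniteType)).2
    (RingHom.finiteType_algebraMap.2 inferInstance)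

omit [IsDomain R] in
theorem rd_str (P : PrimeSpectrum S) :
    FibDim.rd (str R S) (P : ↥(Spec (CommRingCat.of S))) = DimFormula.fd R P.asIdeal := by
  refine eq_of_forall_le_iff fun n => ?_
  rw [DimFormula.le_fd_iff]
  exact FibDim.le_rd_iff' (str R S) (𝟙 _) (𝟙 _) (by simp [str]) P n

omit [Algebra.FiniteType R S] [IsDomain R] in
theorem str_apply_eq {P Q : PrimeSpectrum S} (h : P.asIdeal.under R = Q.asIdeal.under R) :
    str R S (P : ↥(Spec (CommRingCat.of S))) = str R S (Q : ↥(Spec (CommRingCat.of S))) :=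
  PrimeSpectrum.ext h

omit [IsDomain R] in
/-- In a fibre `fd` is strictly decreasing. -/
theorem fd_lt_of_same {P Q : PrimeSpectrum S} (hlt : P < Q)
    (h : P.asIdeal.under R = Q.asIdeal.under R) :
    DimFormula.fd R Q.asIdeal < DimFormula.fd R P.asIdeal := by
  rw [← rd_str, ← rd_str]
  exact FibDim.rd_lt (str R S) ((PrimeSpectrum.le_iff_specializes P Q).1 hlt.le)
    (fun e => hlt.ne e) (str_apply_eq h)

omit [IsDomain R] in
/-- A cover inside a fibre. -/
theorem fd_eq_succ_of_same {P Q : PrimeSpectrum S} (hcov : P ⋖ Q)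
    (h : P.asIdeal.under R = Q.asIdeal.under R) :
    DimFormula.fd R P.asIdeal = DimFormula.fd R Q.asIdeal + 1 := by
  have hlt := fd_lt_of_same hcov.lt h
  let η : ↥(Spec (CommRingCat.of S)) := P
  let x : ↥(Spec (CommRingCat.of S)) := Q
  have hsp : η ⤳ x := (PrimeSpectrum.le_iff_specializes P Q).1 hcov.lt.le
  have he := DimFormula.cd_add_rd_of_fibre (str R S) hsp (str_apply_eq h)
  rw [rd_str, rd_str] at he
  change DimFormula.cd η x + DimFormula.fd R Q.asIdeal = DimFormula.fd R P.asIdeal at he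
  have hcd : DimFormula.cd η x ≤ 1 := by
    have hk : Order.krullDim ↥(Set.Icc x η) ≤ 1 := by
      refine Order.krullDim_le_one_iff.2 fun z => ?_
      let zP : PrimeSpectrum S := z.1
      have h1 : P ≤ zP := (PrimeSpectrum.le_iff_specializes P zP).2 z.2.2
      have h2 : zP ≤ Q := (PrimeSpectrum.le_iff_specializes zP Q).2 z.2.1
      rcases hcov.eq_or_eq h1 h2 with e | e
      · refine Or.inr fun w _ => ?_
        show w.1 ≤ z.1
        rw [show z.1 = η from e]
        exact w.2.2
      · refine Or.inl fun w _ => ?_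
        show z.1 ≤ w.1
        rw [show z.1 = x from e]
        exact w.2.1
    haveI : Nonempty ↥(Set.Icc x η) := ⟨⟨x, le_rfl, hsp⟩⟩
    obtain ⟨d, hd⟩ := WithBot.ne_bot_iff_exists.1 (Order.krullDim_ne_bot_iff.2 ‹Nonempty ↥(Set.Icc x η)›)
    rw [← hd] at hk
    have hd1 : d ≤ 1 := by exact_mod_cast hk
    rw [DimFormula.cd, ← hd, WithBot.unbotD_coe]
    exact ENat.toNat_le_of_le_coe hd1
  omega

omit [IsDomain R] in
/-- A minimal prime of a fibre above `P` has `fd` at least that of `P`. -/
theorem fd_le_of_minimal {P Q : PrimeSpectrum S} (hle : P ≤ Q)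
    (hmin : ∀ Z : PrimeSpectrum S, P ≤ Z → Z ≤ Q → Z.asIdeal.under R = Q.asIdeal.under R → Z = Q) :
    DimFormula.fd R P.asIdeal ≤ DimFormula.fd R Q.asIdeal := by
  rw [← rd_str, ← rd_str]
  obtain ⟨z, h1, h2, h3, h4⟩ := FibDim.exists_rd_ge (str R S)
    ((PrimeSpectrum.le_iff_specializes P Q).1 hle)
  have he : (z : PrimeSpectrum S) = Q := hmin z ((PrimeSpectrum.le_iff_specializes P z).2 h1)
    ((PrimeSpectrum.le_iff_specializes z Q).2 h2) (congrArg PrimeSpectrum.asIdeal h3)
  exact h4.trans (le_of_eq (congrArg (FibDim.rd (str R S)) he))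

theorem exists_smul_pow_mem {I Q : Ideal S} (hQ : Q ∈ I.minimalPrimes) {u : S} (hu : u ∈ Q) :
    ∃ s ∉ Q, ∃ m : ℕ, s * u ^ m ∈ I := by
  haveI := hQ.1.1
  by_contra hne
  push Not at hne
  let M : Submonoid S := Q.primeCompl ⊔ Submonoid.powers u
  have hdisj : Disjoint (I : Set S) (M : Set S) := Set.disjoint_right.2 fun x hx => by
    obtain ⟨s, hs, _, ⟨m, rfl⟩, rfl⟩ := Submonoid.mem_sup.1 hx
    exact hne s hs m
  obtain ⟨P', hP', hIP', hd⟩ := Ideal.exists_le_prime_disjoint I M hdisj
  have hle : P' ≤ Q := fun x hx => by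
    by_contra hxQ
    exact Set.disjoint_left.1 hd hx (Submonoid.mem_sup_left hxQ)
  exact Set.disjoint_left.1 hd (hQ.2 ⟨hP', hIP'⟩ hle hu)
    (Submonoid.mem_sup_right (Submonoid.mem_powers u))

omit [Algebra.FiniteType R S] in
/-- Covering primes lie over equal or covering primes. -/
theorem under_covBy (hR : ∀ (p : Ideal R) [p.IsPrime], ValuationRing (Localization.AtPrime p))
    {P Q : PrimeSpectrum S} (hcov : P ⋖ Q) {q' : Ideal R} [q'.IsPrime]
    (h1 : P.asIdeal.under R < q') (h2 : q' < Q.asIdeal.under R) : False := by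
  obtain ⟨r, hr, hrP⟩ := SetLike.exists_of_lt h1
  obtain ⟨u, hu, huq⟩ := SetLike.exists_of_lt h2
  have hrQ : algebraMap R S r ∈ Q.asIdeal := h2.le hr
  let I : Ideal S := P.asIdeal ⊔ Ideal.span {algebraMap R S r}
  have hIQ : I ≤ Q.asIdeal := sup_le hcov.lt.le ((Ideal.span_singleton_le_iff_mem _).2 hrQ)
  obtain ⟨Z, hZ, hZQ⟩ := Ideal.exists_minimalPrimes_le hIQ
  haveI := hZ.1.1
  have hrI : algebraMap R S r ∈ Z :=
    hZ.1.2 (Ideal.mem_sup_right (Ideal.mem_span_singleton_self _))
  have hZe : Z = Q.asIdeal := by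
    rcases hcov.eq_or_eq (c := ⟨Z, hZ.1.1⟩) (le_sup_left.trans hZ.1.2) hZQ with e | e
    · exact absurd ((congrArg PrimeSpectrum.asIdeal e : Z = P.asIdeal) ▸ hrI) hrP
    · exact congrArg PrimeSpectrum.asIdeal e
  subst hZe
  obtain ⟨s, hs, m, hm⟩ := exists_smul_pow_mem hZ (show algebraMap R S u ∈ Q.asIdeal from hu)
  have hup : u ^ (m + 1) ∉ q' := fun h => huq ((inferInstance : q'.IsPrime).mem_of_pow_mem _ h)
  have hdiv : LocDvd (Q.asIdeal.under R) (u ^ (m + 1)) r := by
    refine (locDvd_total hR _ _ _).resolve_right fun ⟨t, ht, c, hc⟩ => ?_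
    have : t * u ^ (m + 1) ∈ q' := hc ▸ q'.mul_mem_left c hr
    exact ((inferInstance : q'.IsPrime).mem_or_mem this).elim (fun h => ht (h2.le h)) hup
  obtain ⟨t, ht, c, hc⟩ := hdiv
  obtain ⟨π, hπ, w, hw, hsum⟩ := Submodule.mem_sup.1 hm
  obtain ⟨z, rfl⟩ := Ideal.mem_span_singleton'.1 hw
  have hc' := congrArg (algebraMap R S) hc
  rw [map_mul, map_mul, map_pow] at hc'
  have key : algebraMap R S u ^ m *
      (algebraMap R S t * s - algebraMap R S c * z * algebraMap R S u) ∈ P.asIdeal := by
    have : algebraMap R S u ^ m *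
        (algebraMap R S t * s - algebraMap R S c * z * algebraMap R S u) = algebraMap R S t * π := by
      linear_combination (-(algebraMap R S t)) * hsum + z * hc'
    rw [this]
    exact P.asIdeal.mul_mem_left _ hπ
  have huP : algebraMap R S u ∉ P.asIdeal := fun h => huq (h1.le h)
  rcases P.isPrime.mem_or_mem key with h | h
  · exact huP (P.isPrime.mem_of_pow_mem _ h)
  · have h' : algebraMap R S t * s ∈ Q.asIdeal :=
      (Q.asIdeal.sub_mem_iff_left (Q.asIdeal.mul_mem_left _ hu)).1 (hcov.lt.le h)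
    exact (Q.isPrime.mem_or_mem h').elim ht hs

end Groth.Agent.H1Prufer
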