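import Groth.Agent.H1Prufer.Delta
import Groth.Agent.ValPrufer.Basic

/-!
# Covering primes and the dimension function
-/

set_option autoImplicit false
set_option linter.style.haveILetI false

open Order

namespace Groth.Agent.H1Prufer

universe u

variable {R : Type u} [CommRing R] [IsDomain R]

theorem exists_nat_bound (hdim : ringKrullDim R < ⊤) :
    ∃ N : ℕ, ∀ p : PrimeSpectrum R, height p ≤ N := by
  obtain ⟨d, hd⟩ := WithBot.ne_bot_iff_exists.1 (Order.krullDim_ne_bot_iff.2
    (inferInstance : Nonempty (PrimeSpectrum R)))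
  have hne : d ≠ ⊤ := fun h => hdim.ne (by rw [ringKrullDim, ← hd, h]; rfl)
  obtain ⟨N, rfl⟩ := ENat.ne_top_iff_exists.1 hne
  refine ⟨N, fun p => ?_⟩
  have := Order.height_le_krullDim p
  rw [← hd] at this
  exact WithBot.coe_le_coe.1 this

theorem height_toNat_lt (hdim : ringKrullDim R < ⊤) {p q : Ideal R} [p.IsPrime] [q.IsPrime]
    (h : p < q) : p.height.toNat < q.height.toNat := by
  obtain ⟨N, hN⟩ := exists_nat_bound hdim
  have hfin : ∀ r : PrimeSpectrum R, height r ≠ ⊤ := fun r =>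
    ne_top_of_le_ne_top (ENat.coe_ne_top N) (hN r)
  have h1 : height (⟨p, ‹_›⟩ : PrimeSpectrum R) < height (⟨q, ‹_›⟩ : PrimeSpectrum R) :=
    height_strictMono (show (⟨p, ‹_›⟩ : PrimeSpectrum R) < ⟨q, ‹_›⟩ from h) (hfin _).lt_top
  have ep := (⟨p, ‹_›⟩ : PrimeSpectrum R).height_eq_orderHeight
  have eq' := (⟨q, ‹_›⟩ : PrimeSpectrum R).height_eq_orderHeight
  simp only at ep eq'
  rw [ep, eq']
  obtain ⟨a, ha⟩ := ENat.ne_top_iff_exists.1 (hfin ⟨p, ‹_›⟩)
  obtain ⟨b, hb⟩ := ENat.ne_top_iff_exists.1 (hfin ⟨q, ‹_›⟩)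
  rw [← ha, ← hb] at h1 ⊢
  exact ENat.coe_lt_coe.1 h1

theorem height_toNat_succ (hR : ∀ (p : Ideal R) [p.IsPrime], ValuationRing (Localization.AtPrime p))
    (hdim : ringKrullDim R < ⊤) {p q : Ideal R} [p.IsPrime] [q.IsPrime] (h : p < q)
    (hno : ∀ r : Ideal R, r.IsPrime → p < r → r < q → False) :
    q.height.toNat = p.height.toNat + 1 := by
  refine le_antisymm ?_ (height_toNat_lt hdim h)
  obtain ⟨N, hN⟩ := exists_nat_bound hdim
  have ep := (⟨p, ‹_›⟩ : PrimeSpectrum R).height_eq_orderHeight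
  have eq' := (⟨q, ‹_›⟩ : PrimeSpectrum R).height_eq_orderHeight
  simp only at ep eq'
  rw [ep, eq']
  obtain ⟨a, ha⟩ := ENat.ne_top_iff_exists.1
    (ne_top_of_le_ne_top (ENat.coe_ne_top N) (hN ⟨p, ‹_›⟩))
  rw [← ha]
  refine ENat.toNat_le_of_le_coe (Order.height_le_coe_iff.2 fun y hy => ?_)
  have hyp : y ≤ (⟨p, ‹_›⟩ : PrimeSpectrum R) := by
    by_contra hne
    haveI := y.isPrime
    have h2 := (ValPrufer.le_total_of_le hR (P := y.asIdeal) (Q := p) (M := q) hy.le h.le).resolve_left hne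
    exact hno y.asIdeal y.isPrime (lt_of_le_not_ge h2 hne) hy
  calc height y ≤ height (⟨p, ‹_›⟩ : PrimeSpectrum R) := height_mono hyp
    _ = (a : ℕ∞) := ha.symm
    _ < ((a + 1 : ℕ) : ℕ∞) := by exact_mod_cast Nat.lt_succ_self a

variable {S : Type u} [CommRing S] [Algebra R S]

variable (R) in
/-- The dimension function. -/
noncomputable def delta (P : PrimeSpectrum S) : ℤ :=
  (DimFormula.fd R P.asIdeal : ℤ) - ((P.asIdeal.under R).height.toNat : ℤ)

variable [Algebra.FiniteType R S]

theorem delta_strictAnti (hR : ∀ (p : Ideal R) [p.IsPrime], ValuationRing (Localization.AtPrime p))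
    (hdim : ringKrullDim R < ⊤) : StrictAnti (delta R : PrimeSpectrum S → ℤ) := fun P Q h => by
  have hle : P.asIdeal.under R ≤ Q.asIdeal.under R := Ideal.comap_mono h.le
  rcases hle.lt_or_eq with hlt | he
  · have h1 := fd_anti hR (show P.asIdeal ≤ Q.asIdeal from h.le)
    have h2 := height_toNat_lt hdim hlt
    rw [delta, delta]
    omega
  · have h1 := fd_lt_of_same h he
    rw [delta, delta, he]
    omega

theorem delta_covBy (hR : ∀ (p : Ideal R) [p.IsPrime], ValuationRing (Localization.AtPrime p))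
    (hdim : ringKrullDim R < ⊤) {P Q : PrimeSpectrum S} (h : P ⋖ Q) :
    delta R P = delta R Q + 1 := by
  have hle : P.asIdeal.under R ≤ Q.asIdeal.under R := Ideal.comap_mono h.lt.le
  rcases hle.lt_or_eq with hlt | he
  · have h1 := height_toNat_succ hR hdim hlt fun r hr a b => @under_covBy _ _ _ _ _ _ hR _ _ h r hr a b
    have h2 := fd_anti hR (show P.asIdeal ≤ Q.asIdeal from h.lt.le)
    have h3 := fd_le_of_minimal (R := R) h.lt.le fun Z hPZ hZQ hu => by
      refine (h.eq_or_eq hPZ hZQ).resolve_left fun e => hlt.ne ?_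
      rw [← hu, e]
    rw [delta, delta]
    omega
  · have h1 := fd_eq_succ_of_same h he
    rw [delta, delta, he]
    omega

theorem covBy_iff (hR : ∀ (p : Ideal R) [p.IsPrime], ValuationRing (Localization.AtPrime p))
    (hdim : ringKrullDim R < ⊤) {P Q : PrimeSpectrum S} (hlt : P < Q) :
    P ⋖ Q ↔ delta R P = delta R Q + 1 := by
  refine ⟨delta_covBy hR hdim, fun he => ⟨hlt, fun Z h1 h2 => ?_⟩⟩
  have e1 := delta_strictAnti hR hdim h1
  have e2 := delta_strictAnti hR hdim h2
  omega

omit [Algebra.FiniteType R S] in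
theorem delta_add_length (hR : ∀ (p : Ideal R) [p.IsPrime], ValuationRing (Localization.AtPrime p))
    (hdim : ringKrullDim R < ⊤) [Algebra.FiniteType R S] (l : LTSeries (PrimeSpectrum S))
    (i : Fin (l.length + 1)) : delta R (l i) + (i : ℤ) ≤ delta R l.head := by
  induction i using Fin.induction with
  | zero => exact le_of_eq (add_zero _)
  | succ j ih =>
    have h1 := delta_strictAnti (S := S) hR hdim (l.step j)
    rw [Fin.val_succ]
    push_cast
    simp only [Fin.val_castSucc] at ih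
    omega

theorem delta_add_length_eq (hR : ∀ (p : Ideal R) [p.IsPrime], ValuationRing (Localization.AtPrime p))
    (hdim : ringKrullDim R < ⊤) (l : LTSeries (PrimeSpectrum S))
    (hcov : ∀ i : Fin l.length, l (Fin.castSucc i) ⋖ l (Fin.succ i))
    (i : Fin (l.length + 1)) : delta R (l i) + (i : ℤ) = delta R l.head := by
  induction i using Fin.induction with
  | zero => exact add_zero _
  | succ j ih =>
    have h1 := delta_covBy (S := S) hR hdim (hcov j)
    rw [Fin.val_succ]
    push_cast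
    simp only [Fin.val_castSucc] at ih
    omega

omit [IsDomain R] [Algebra.FiniteType R S] in
theorem fd_eq_trdeg_quotient [Algebra.FiniteType R S] (P : Ideal S) [P.IsPrime] :
    Cardinal.toNat (Algebra.trdeg (R ⧸ P.under R) (S ⧸ P)) = DimFormula.fd R P := by
  rw [← DimFormula.fd_eq_trdeg R (C := S ⧸ P) (P.under R) (Ideal.Quotient.mkₐ R P)
    Ideal.Quotient.mk_surjective P Ideal.mk_ker rfl, Cardinal.toNat_natCast]

omit [IsDomain R] in
theorem exists_fd_bound : ∃ m : ℕ, ∀ (P : Ideal S) [P.IsPrime], DimFormula.fd R P ≤ m := by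
  obtain ⟨m, π, hπ⟩ := Algebra.FiniteType.iff_quotient_mvPolynomial''.1 ‹Algebra.FiniteType R S›
  refine ⟨m, fun P hP => ?_⟩
  obtain ⟨t, ht⟩ := (DimFormula.le_fd_iff R P _).1 le_rfl
  let p := P.under R
  have h1 := ((DimFormula.indepMod_iff_of_quotient R p (Ideal.Quotient.mkₐ R P) P Ideal.mk_ker rfl t).1
    ht).lift_cardinalMk_le_trdeg
  let g : Fin m → S ⧸ P := fun i => Ideal.Quotient.mk P (π (MvPolynomial.X i))
  let φ : MvPolynomial (Fin m) (R ⧸ p) →ₐ[R ⧸ p] S ⧸ P := MvPolynomial.aeval g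
  have hφ : Function.Surjective φ := fun z => by
    obtain ⟨s, rfl⟩ := Ideal.Quotient.mk_surjective z
    obtain ⟨G, rfl⟩ := hπ s
    refine ⟨MvPolynomial.map (Ideal.Quotient.mk p) G, ?_⟩
    show MvPolynomial.aeval g (MvPolynomial.map (Ideal.Quotient.mk p) G) = _
    rw [← Ideal.Quotient.algebraMap_eq, MvPolynomial.aeval_map_algebraMap]
    show MvPolynomial.aeval (fun i => (Ideal.Quotient.mkₐ R P) (π (MvPolynomial.X i))) G =
      Ideal.Quotient.mkₐ R P (π G)
    exact (congrArg (fun ψ : MvPolynomial (Fin m) R →ₐ[R] S ⧸ P => ψ G)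
      (MvPolynomial.aeval_unique ((Ideal.Quotient.mkₐ R P).comp π))).symm
  haveI : IsDomain (R ⧸ p) := Ideal.Quotient.isDomain p
  have h2 := lift_trdeg_le_of_surjective φ hφ
  rw [MvPolynomial.trdeg_of_isDomain] at h2
  simp only [Cardinal.mk_fin, Cardinal.lift_natCast, Cardinal.lift_id', Cardinal.lift_id] at h1 h2
  exact_mod_cast h1.trans h2

theorem isCatenary (hR : ∀ (p : Ideal R) [p.IsPrime], ValuationRing (Localization.AtPrime p))
    (hdim : ringKrullDim R < ⊤) : CAlg.IsCatenary S := by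
  refine ⟨fun p q _ => ⟨(delta R p - delta R q).toNat, fun l h0 h1 => ?_⟩, fun s t h0 h1 hs ht => ?_⟩
  · have := delta_add_length hR hdim l (Fin.last _)
    rw [show l (Fin.last _) = q from h1, h0, Fin.val_last] at this
    omega
  · have e1 := delta_add_length_eq (R := R) hR hdim s hs (Fin.last _)
    have e2 := delta_add_length_eq (R := R) hR hdim t ht (Fin.last _)
    rw [Fin.val_last, show s (Fin.last _) = s.last from rfl] at e1
    rw [Fin.val_last, show t (Fin.last _) = t.last from rfl] at e2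
    rw [h0, h1] at e1
    omega

theorem ringKrullDim_lt_top (hR : ∀ (p : Ideal R) [p.IsPrime], ValuationRing (Localization.AtPrime p))
    (hdim : ringKrullDim R < ⊤) : ringKrullDim S < ⊤ := by
  obtain ⟨m, hm⟩ := exists_fd_bound (R := R) (S := S)
  obtain ⟨N, hN⟩ := exists_nat_bound hdim
  have hle : ringKrullDim S ≤ ((m + N : ℕ) : WithBot ℕ∞) := iSup_le fun l => by
    have h := delta_add_length hR hdim l (Fin.last _)
    have h1 := hm l.head.asIdeal
    have h2 : ((l (Fin.last _)).asIdeal.under R).height.toNat ≤ N := by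
      refine ENat.toNat_le_of_le_coe ?_
      have e := (PrimeSpectrum.comap (algebraMap R S) (l (Fin.last _))).height_eq_orderHeight
      exact (le_of_eq e).trans (hN _)
    rw [delta, delta, Fin.val_last] at h
    have : l.length ≤ m + N := by omega
    exact_mod_cast this
  refine hle.trans_lt ?_
  rw [← WithBot.coe_natCast]
  exact WithBot.coe_lt_coe.2 (ENat.coe_lt_top _)

end Groth.Agent.H1Prufer
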